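import Groth.Prelude.Def_ArtFun4
import Groth.Agent.ThickAffine.Main
import Groth.Agent.TFun.Artinian
import Mathlib.AlgebraicGeometry.Pullbacks
import Mathlib.AlgebraicGeometry.Morphisms.UnderlyingMap

/-!
# Deformations of affine schemes are affine
-/

set_option autoImplicit false
universe u
open CategoryTheory CategoryTheory.Limits AlgebraicGeometry IsLocalRing

namespace Groth.Agent.DefAff

section Pushout
variable {A B C P : Type u} [CommRing A] [CommRing B] [CommRing C] [CommRing P]
variable {f : A →+* B} {g : A →+* C} {l : B →+* P} {r : C →+* P}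

theorem surj_ker_of_isPushout (hg : Function.Surjective g)
    (h : IsPushout (CommRingCat.ofHom f) (CommRingCat.ofHom g) (CommRingCat.ofHom l) (CommRingCat.ofHom r)) :
    Function.Surjective l ∧ RingHom.ker l = (RingHom.ker g).map f := by
  set I := (RingHom.ker g).map f with hI
  have w : ∀ a, l (f a) = r (g a) := fun a =>
    RingHom.congr_fun (congrArg CommRingCat.Hom.hom h.w) a
  have hle : RingHom.ker g ≤ RingHom.ker ((Ideal.Quotient.mk I).comp f) := fun a ha => by
    rw [RingHom.mem_ker, RingHom.comp_apply, Ideal.Quotient.eq_zero_iff_mem]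
    exact Ideal.mem_map_of_mem f ha
  let r' : C →+* B ⧸ I := g.liftOfSurjective hg ⟨_, hle⟩
  have hr' : ∀ a, r' (g a) = Ideal.Quotient.mk I (f a) := fun a =>
    RingHom.liftOfSurjective_comp_apply g hg ⟨_, hle⟩ a
  have hkill : I ≤ RingHom.ker l := Ideal.map_le_iff_le_comap.2 fun a ha => by
    rw [Ideal.mem_comap, RingHom.mem_ker, w, show g a = 0 from ha, map_zero]
  let e : B ⧸ I →+* P := Ideal.Quotient.lift I l fun b hb => hkill hb
  let d : CommRingCat.of P ⟶ CommRingCat.of (B ⧸ I) :=
    h.desc (CommRingCat.ofHom (Ideal.Quotient.mk I)) (CommRingCat.ofHom r')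
      (CommRingCat.hom_ext (RingHom.ext fun a => (hr' a).symm))
  have hd : ∀ b, d.hom (l b) = Ideal.Quotient.mk I b := fun b =>
    RingHom.congr_fun (congrArg CommRingCat.Hom.hom (h.inl_desc _ _ _)) b
  have hd' : ∀ c, d.hom (r c) = r' c := fun c =>
    RingHom.congr_fun (congrArg CommRingCat.Hom.hom (h.inr_desc _ _ _)) c
  have he : ∀ p : P, e (d.hom p) = p := by
    have : d ≫ CommRingCat.ofHom e = 𝟙 _ := h.hom_ext
      (CommRingCat.hom_ext (RingHom.ext fun b => by
        change e (d.hom (l b)) = l b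
        rw [hd]
        rfl))
      (CommRingCat.hom_ext (RingHom.ext fun c => by
        obtain ⟨a, rfl⟩ := hg c
        change e (d.hom (r (g a))) = r (g a)
        rw [hd', hr', ← w]
        rfl))
    exact RingHom.congr_fun (congrArg CommRingCat.Hom.hom this)
  refine ⟨fun p => ?_, le_antisymm (fun b hb => ?_) hkill⟩
  · obtain ⟨b, hb⟩ := Ideal.Quotient.mk_surjective (d.hom p)
    exact ⟨b, by rw [← he p, ← hb]; rfl⟩
  · rw [← Ideal.Quotient.eq_zero_iff_mem, ← hd, show l b = 0 from hb, map_zero]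

theorem isPushout_of_surj_ker (hg : Function.Surjective g) (hl : Function.Surjective l)
    (hc : l.comp f = r.comp g) (hk : RingHom.ker l = (RingHom.ker g).map f) :
    IsPushout (CommRingCat.ofHom f) (CommRingCat.ofHom g) (CommRingCat.ofHom l) (CommRingCat.ofHom r) := by
  have w : CommRingCat.ofHom f ≫ CommRingCat.ofHom l = CommRingCat.ofHom g ≫ CommRingCat.ofHom r := by
    rw [← CommRingCat.ofHom_comp, ← CommRingCat.ofHom_comp, hc]
  have hs : ∀ s : PushoutCocone (CommRingCat.ofHom f) (CommRingCat.ofHom g),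
      RingHom.ker l ≤ RingHom.ker s.inl.hom := fun s => by
    rw [hk, Ideal.map_le_iff_le_comap]
    intro a ha
    rw [Ideal.mem_comap, RingHom.mem_ker]
    refine (RingHom.congr_fun (congrArg CommRingCat.Hom.hom s.condition) a).trans ?_
    change s.inr.hom (g a) = 0
    rw [show g a = 0 from ha, map_zero]
  refine ⟨⟨w⟩, ⟨PushoutCocone.IsColimit.mk w
    (fun s => CommRingCat.ofHom (l.liftOfSurjective hl ⟨s.inl.hom, hs s⟩)) (fun s => ?_) (fun s => ?_)
    (fun s m hm _ => ?_)⟩⟩
  · exact CommRingCat.hom_ext (RingHom.liftOfSurjective_comp _ _ _)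
  · refine CommRingCat.hom_ext (RingHom.ext fun c => ?_)
    obtain ⟨a, rfl⟩ := hg c
    change l.liftOfSurjective hl ⟨s.inl.hom, hs s⟩ (r (g a)) = _
    rw [show r (g a) = l (f a) from (RingHom.congr_fun hc a).symm, RingHom.liftOfSurjective_comp_apply]
    exact RingHom.congr_fun (congrArg CommRingCat.Hom.hom s.condition) a
  · refine CommRingCat.hom_ext (RingHom.ext fun p => ?_)
    obtain ⟨b, rfl⟩ := hl p
    change m.hom (l b) = l.liftOfSurjective hl ⟨s.inl.hom, hs s⟩ (l b)
    rw [RingHom.liftOfSurjective_comp_apply]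
    exact RingHom.congr_fun (congrArg CommRingCat.Hom.hom hm) b

theorem isPushout_of_isPullback_SpecMap {A B C P : CommRingCat.{u}} {f : A ⟶ B} {g : A ⟶ C}
    {inl : B ⟶ P} {inr : C ⟶ P}
    (h : IsPullback (Spec.map inl) (Spec.map inr) (Spec.map f) (Spec.map g)) :
    IsPushout f g inl inr := by
  have w : f ≫ inl = g ≫ inr := Spec.map_injective (by rw [Spec.map_comp, Spec.map_comp, h.w])
  have w' : inl.op ≫ f.op = inr.op ≫ g.op := by rw [← op_comp, ← op_comp, w]
  exact (IsPullback.of_map Scheme.Spec w' h).flip.unop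

end Pushout

open ArtFun

variable {Λ k : Type u} [CommRing Λ] [Field k] [Algebra Λ k]

theorem ker_res (A : Art Λ k) : RingHom.ker A.res.toRingHom = maximalIdeal A :=
  Ideal.ext fun a => (Art.mem_maximalIdeal_iff A a).symm

theorem surjective_specRes (A : Art Λ k) : Function.Surjective (Art.specRes A) := by
  intro P
  refine ⟨(IsLocalRing.closedPoint k : PrimeSpectrum k), PrimeSpectrum.ext ?_⟩
  have h1 : (P : PrimeSpectrum A).asIdeal.IsMaximal := IsArtinianRing.isMaximal_of_isPrime _
  have h2 : ((PrimeSpectrum.comap A.res.toRingHom) (IsLocalRing.closedPoint k)).asIdeal.IsMaximal :=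
    IsArtinianRing.isMaximal_of_isPrime _
  exact (IsLocalRing.eq_maximalIdeal h2).trans (IsLocalRing.eq_maximalIdeal h1).symm

variable {B₀ : Type u} [CommRing B₀] {x : Spec (CommRingCat.of B₀) ⟶ Art.specPt k}

theorem isAffine_total {A : Art Λ k} (ξ : DefSch (Spec (CommRingCat.of B₀)) x A) :
    IsAffine ξ.total := by
  haveI : IsClosedImmersion (Art.specRes A) :=
    IsClosedImmersion.spec_of_surjective _ A.res_surjective
  haveI : IsClosedImmersion ξ.i :=
    MorphismProperty.of_isPullback ξ.isPullback.flip inferInstance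
  haveI : Surjective ξ.i :=
    MorphismProperty.of_isPullback ξ.isPullback.flip (⟨surjective_specRes A⟩ : Surjective (Art.specRes A))
  exact Groth.Agent.ThickAffine.isAffine_of_surjective ξ.i ξ.i.surjective

/-- Every deformation of an affine scheme is `Spec` of a flat algebra with the given closed fibre. -/
theorem exists_aff {A : Art Λ k} {xr : k →+* B₀} (hx : x = Spec.map (CommRingCat.ofHom xr))
    (ξ : DefSch (Spec (CommRingCat.of B₀)) x A) :
    ∃ (B : CommRingCat.{u}) (f : A →+* B) (q : B →+* B₀) (w : Spec B ≅ ξ.total),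
      w.hom ≫ ξ.f = Spec.map (CommRingCat.ofHom f) ∧ Spec.map (CommRingCat.ofHom q) ≫ w.hom = ξ.i ∧
      f.Flat ∧ Function.Surjective q ∧ RingHom.ker q = (maximalIdeal A).map f ∧
      q.comp f = xr.comp A.res.toRingHom := by
  haveI := isAffine_total ξ
  subst hx
  set w := ξ.total.isoSpec.symm with hw
  obtain ⟨f, hf⟩ : ∃ f : CommRingCat.of A ⟶ Γ(ξ.total, ⊤), Spec.map f = w.hom ≫ ξ.f :=
    ⟨Spec.preimage (w.hom ≫ ξ.f), Spec.map_preimage _⟩
  obtain ⟨q, hq⟩ : ∃ q : Γ(ξ.total, ⊤) ⟶ CommRingCat.of B₀, Spec.map q = ξ.i ≫ w.inv :=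
    ⟨Spec.preimage (ξ.i ≫ w.inv), Spec.map_preimage _⟩
  have hfl : f.hom.Flat := by
    rw [← Flat.SpecMap_iff, hf]
    infer_instance
  have hpb : IsPullback (Spec.map q) (Spec.map (CommRingCat.ofHom xr)) (Spec.map f) (Art.specRes A) := by
    rw [hq, hf]
    exact ξ.isPullback.of_iso (Iso.refl _) w.symm (Iso.refl _) (Iso.refl _) (by simp) (by simp)
      (by simp) (by simp)
  have hpo := isPushout_of_isPullback_SpecMap hpb
  obtain ⟨h1, h2⟩ := surj_ker_of_isPushout (f := f.hom) (g := A.res.toRingHom) (l := q.hom) (r := xr)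
    A.res_surjective hpo
  refine ⟨Γ(ξ.total, ⊤), f.hom, q.hom, w, hf.symm, ?_, hfl, h1, by rw [h2, ker_res], ?_⟩
  · change Spec.map q ≫ w.hom = ξ.i
    rw [hq, Category.assoc, w.inv_hom_id, Category.comp_id]
  · exact congrArg CommRingCat.Hom.hom hpo.w

end Groth.Agent.DefAff
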