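import Groth.Agent.DefAff.Core
import Groth.Agent.DefAff.Scheme
import Groth.Prelude.Def_CotT2

/-!
# Extensions of an affine deformation along a semismall extension
-/

set_option autoImplicit false
set_option linter.unusedSectionVars false
universe u
open CategoryTheory CategoryTheory.Limits AlgebraicGeometry IsLocalRing TensorProduct
open ArtFun

namespace Groth.Agent.DefAff

variable {k : Type u} [Field k] {B₀ : Type u} [CommRing B₀] [Algebra k B₀]
variable {C' C : Art k k} (p : C' ⟶ C)

/-- `Spec B₀ → Spec k`. -/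
noncomputable abbrev strMap (k B₀ : Type u) [Field k] [CommRing B₀] [Algebra k B₀] :
    Spec (CommRingCat.of B₀) ⟶ Art.specPt k :=
  Spec.map (CommRingCat.ofHom (algebraMap k B₀))

variable (𝒳 : DefSch (Spec (CommRingCat.of B₀)) (strMap k B₀) C)

/-- Extensions of `𝒳` over `C'`. -/
abbrev Extns : Type (u + 1) :=
  Σ 𝒳' : DefSch (Spec (CommRingCat.of B₀)) (strMap k B₀) C', (𝒳'.baseChange p).Iso 𝒳

/-- Equivalence of extensions. -/
def ExtRel (a b : Extns p 𝒳) : Prop :=
  ∃ ψ : a.1.Iso b.1, ((ψ.baseChange p).trans b.2).iso = a.2.iso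

variable {p 𝒳}

/-- The inclusion of `𝒳` in an extension. -/
noncomputable def incl' (a : Extns p 𝒳) : 𝒳.total ⟶ a.1.total :=
  a.2.iso.inv ≫ pullback.fst a.1.f (Art.specMap p)

theorem inv_snd (a : Extns p 𝒳) : a.2.iso.inv ≫ pullback.snd a.1.f (Art.specMap p) = 𝒳.f := by
  rw [Iso.inv_comp_eq]
  exact a.2.hom_f.symm

theorem incl'_f (a : Extns p 𝒳) : incl' a ≫ a.1.f = 𝒳.f ≫ Art.specMap p := by
  rw [incl', Category.assoc, pullback.condition, ← Category.assoc, inv_snd]

theorem i_incl' (a : Extns p 𝒳) : 𝒳.i ≫ incl' a = a.1.i := by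
  have h : 𝒳.i ≫ a.2.iso.inv = (a.1.baseChange p).i := (Iso.comp_inv_eq _).2 a.2.i_hom.symm
  rw [incl']
  exact ((Category.assoc _ _ _).symm.trans (congrArg (· ≫ _) h)).trans
    (DefSch.baseChange_i_fst a.1 p)

theorem isPullback_incl' (a : Extns p 𝒳) : IsPullback (incl' a) 𝒳.f a.1.f (Art.specMap p) :=
  (IsPullback.of_hasPullback a.1.f (Art.specMap p)).of_iso a.2.iso (Iso.refl _) (Iso.refl _) (Iso.refl _)
    (by simp [incl']) (by simpa using a.2.hom_f.symm) (by simp) (by simp)

theorem extRel_iff (a b : Extns p 𝒳) :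
    ExtRel p 𝒳 a b ↔ ∃ ψ : a.1.total ≅ b.1.total, ψ.hom ≫ b.1.f = a.1.f ∧ incl' a ≫ ψ.hom = incl' b := by
  constructor
  · rintro ⟨ψ, h⟩
    refine ⟨ψ.iso, ψ.hom_f, ?_⟩
    have h1 : DefSch.pullMap ψ.iso.hom ψ.hom_f p ≫ b.2.iso.hom = a.2.iso.hom :=
      congrArg CategoryTheory.Iso.hom h
    have h2 : a.2.iso.inv ≫ DefSch.pullMap ψ.iso.hom ψ.hom_f p = b.2.iso.inv := by
      rw [Iso.inv_comp_eq, ← h1, Category.assoc, Iso.hom_inv_id, Category.comp_id]
    rw [incl', incl', ← h2, Category.assoc, Category.assoc, DefSch.pullMap_fst]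
  · rintro ⟨ψ, hf, hi⟩
    have hii : a.1.i ≫ ψ.hom = b.1.i := by rw [← i_incl' a, Category.assoc, hi, i_incl' b]
    refine ⟨⟨ψ, hf, hii⟩, Iso.ext ?_⟩
    change DefSch.pullMap ψ.hom hf p ≫ b.2.iso.hom = a.2.iso.hom
    have h2 : DefSch.pullMap ψ.hom hf p = a.2.iso.hom ≫ b.2.iso.inv := by
      apply pullback.hom_ext
      · rw [DefSch.pullMap_fst, Category.assoc]
        change _ = a.2.iso.hom ≫ incl' b
        rw [← hi, incl', Category.assoc, Iso.hom_inv_id_assoc]
      · rw [DefSch.pullMap_snd, Category.assoc, inv_snd]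
        exact a.2.hom_f.symm
    rw [h2, Category.assoc, Iso.inv_hom_id, Category.comp_id]

section Ring

variable {B : Type u} [CommRing B] [Algebra C' B]
variable [Module B (M₀ B₀ (RingHom.ker p.toAlgHom))]
variable {q : B →+* B₀} {f : C →+* B}
variable (hB : Base (RingHom.ker p.toAlgHom) B q)
variable (u₀ : Spec (CommRingCat.of B) ≅ 𝒳.total)

/-- The element `a` is presented by the algebra extension `X`. -/
def Rep (a : Extns p 𝒳) (X : Exal.Ext C' B (M₀ B₀ (RingHom.ker p.toAlgHom))) : Prop :=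
  Norm X ∧ ∃ w : Spec (CommRingCat.of X.E) ≅ a.1.total,
    w.hom ≫ a.1.f = Spec.map (CommRingCat.ofHom (algebraMap C' X.E)) ∧
    Spec.map (CommRingCat.ofHom X.proj.toRingHom) ≫ w.hom = u₀.hom ≫ incl' a

include hB in
theorem equiv_of_algEquiv {X Y : Exal.Ext C' B (M₀ B₀ (RingHom.ker p.toAlgHom))} (hX : Norm X)
    (hY : Norm Y) (e : X.E ≃ₐ[C'] Y.E) (he : ∀ x, Y.proj (e x) = X.proj x) :
    Nonempty (Exal.Ext.Equiv X Y) := by
  refine ⟨⟨e, he, fun m => ?_⟩⟩
  induction m using TensorProduct.induction_on with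
  | zero => rw [_root_.map_zero, _root_.map_zero, _root_.map_zero]
  | add x y hx hy => rw [map_add, map_add, hx, hy, map_add]
  | tmul b₀ j =>
    obtain ⟨b, rfl⟩ := hB.surj b₀
    obtain ⟨x, rfl⟩ := X.isExtension.proj_surjective b
    rw [incl_tmul hB hX _ j x rfl, map_mul, AlgEquiv.commutes,
      incl_tmul hB hY _ j (e x) (by rw [he])]

include hB in
theorem rep_cl_eq {a b : Extns p 𝒳} (hab : ExtRel p 𝒳 a b)
    {X Y : Exal.Ext C' B (M₀ B₀ (RingHom.ker p.toAlgHom))} (hX : Rep u₀ a X) (hY : Rep u₀ b Y) :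
    X.cl = Y.cl := by
  obtain ⟨ψ, hψf, hψi⟩ := (extRel_iff a b).1 hab
  obtain ⟨hNX, wX, hXf, hXp⟩ := hX
  obtain ⟨hNY, wY, hYf, hYp⟩ := hY
  set W := wX ≪≫ ψ ≪≫ wY.symm with hW
  obtain ⟨t, ht⟩ : ∃ t : CommRingCat.of Y.E ⟶ CommRingCat.of X.E, Spec.map t = W.hom :=
    ⟨Spec.preimage W.hom, Spec.map_preimage _⟩
  obtain ⟨t', ht'⟩ : ∃ t : CommRingCat.of X.E ⟶ CommRingCat.of Y.E, Spec.map t = W.inv :=
    ⟨Spec.preimage W.inv, Spec.map_preimage _⟩
  have h1 : t ≫ t' = 𝟙 _ := Spec.map_injective (by rw [Spec.map_comp, ht, ht', W.inv_hom_id, Spec.map_id])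
  have h2 : t' ≫ t = 𝟙 _ := Spec.map_injective (by rw [Spec.map_comp, ht, ht', W.hom_inv_id, Spec.map_id])
  have hc : CommRingCat.ofHom (algebraMap C' Y.E) ≫ t = CommRingCat.ofHom (algebraMap C' X.E) :=
    Spec.map_injective (by
      rw [Spec.map_comp, ht, ← hXf, ← hYf, hW]
      simp [hψf])
  have hp' : t ≫ CommRingCat.ofHom X.proj.toRingHom = CommRingCat.ofHom Y.proj.toRingHom :=
    Spec.map_injective (by
      rw [Spec.map_comp, ht, ← cancel_mono wY.hom, hYp, hW]
      simp only [Iso.trans_hom, Iso.symm_hom, Category.assoc, Iso.inv_hom_id, Category.comp_id]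
      rw [← Category.assoc, hXp, Category.assoc, hψi])
  let e : Y.E ≃ₐ[C'] X.E :=
    AlgEquiv.ofAlgHom
      { t.hom with commutes' := fun c => RingHom.congr_fun (congrArg CommRingCat.Hom.hom hc) c }
      { t'.hom with
        commutes' := fun c => by
          have := congrArg t'.hom (RingHom.congr_fun (congrArg CommRingCat.Hom.hom hc) c)
          exact this.symm.trans (RingHom.congr_fun (congrArg CommRingCat.Hom.hom h1) _) }
      (AlgHom.ext fun x => RingHom.congr_fun (congrArg CommRingCat.Hom.hom h2) x)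
      (AlgHom.ext fun x => RingHom.congr_fun (congrArg CommRingCat.Hom.hom h1) x)
  obtain ⟨E⟩ := equiv_of_algEquiv hB hNY hNX e
    (fun x => RingHom.congr_fun (congrArg CommRingCat.Hom.hom hp') x)
  have hYX : Y.cl = X.cl := Quotient.sound ⟨E⟩
  exact hYX.symm

theorem extRel_of_rep {a b : Extns p 𝒳} {X Y : Exal.Ext C' B (M₀ B₀ (RingHom.ker p.toAlgHom))}
    (hX : Rep u₀ a X) (hY : Rep u₀ b Y) (h : X.cl = Y.cl) : ExtRel p 𝒳 a b := by
  obtain ⟨e⟩ := Quotient.exact h
  obtain ⟨-, wX, hXf, hXp⟩ := hX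
  obtain ⟨-, wY, hYf, hYp⟩ := hY
  let te : CommRingCat.of X.E ≅ CommRingCat.of Y.E := e.toAlgEquiv.toRingEquiv.toCommRingCatIso
  let S : Spec (CommRingCat.of X.E) ≅ Spec (CommRingCat.of Y.E) :=
    ⟨Spec.map te.inv, Spec.map te.hom, by rw [← Spec.map_comp, te.hom_inv_id, Spec.map_id],
      by rw [← Spec.map_comp, te.inv_hom_id, Spec.map_id]⟩
  refine (extRel_iff a b).2 ⟨wX.symm ≪≫ S ≪≫ wY, ?_, ?_⟩
  · rw [← cancel_epi wX.hom, hXf]
    simp only [Iso.trans_hom, Iso.symm_hom, Category.assoc, Iso.hom_inv_id_assoc]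
    rw [hYf]
    change Spec.map te.inv ≫ _ = _
    rw [← Spec.map_comp]
    congr 1
    exact CommRingCat.hom_ext (RingHom.ext fun c => e.toAlgEquiv.symm.commutes c)
  · rw [← cancel_epi u₀.hom, ← hYp, ← Category.assoc, ← hXp]
    simp only [Iso.trans_hom, Iso.symm_hom, Category.assoc, Iso.hom_inv_id_assoc]
    change _ ≫ Spec.map te.inv ≫ _ = _
    rw [← Category.assoc, ← Spec.map_comp]
    congr 2
    exact CommRingCat.hom_ext (RingHom.ext fun y =>
      ((e.proj_apply _).symm.trans (congrArg Y.proj (e.toAlgEquiv.apply_symm_apply y))))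

section Exist

variable (hu₁ : u₀.hom ≫ 𝒳.f = Spec.map (CommRingCat.ofHom f))
variable (hu₂ : Spec.map (CommRingCat.ofHom q) ≫ u₀.hom = 𝒳.i)
variable (hf : algebraMap C' B = f.comp p.toAlgHom.toRingHom)
variable (hp : Function.Surjective p.toAlgHom)

include hB hu₁ hu₂ hf hp in
theorem exists_rep (a : Extns p 𝒳) : ∃ X, Rep u₀ a X := by
  obtain ⟨E, f', q', w, hw1, hw2, hflat, hq', hkq', hqf'⟩ :=
    exists_aff (xr := algebraMap k B₀) rfl a.1
  obtain ⟨π, hπ⟩ : ∃ π : E ⟶ CommRingCat.of B, Spec.map π = u₀.hom ≫ incl' a ≫ w.inv :=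
    ⟨Spec.preimage (u₀.hom ≫ incl' a ≫ w.inv), Spec.map_preimage _⟩
  have hpb : IsPullback (Spec.map π) (Spec.map (CommRingCat.ofHom f))
      (Spec.map (CommRingCat.ofHom f')) (Art.specMap p) := by
    rw [hπ, ← hu₁, ← hw1]
    exact (isPullback_incl' a).of_iso u₀.symm w.symm (Iso.refl _) (Iso.refl _) (by simp) (by simp)
      (by simp) (by simp)
  have hpo := isPushout_of_isPullback_SpecMap hpb
  obtain ⟨hπs, hπk⟩ := surj_ker_of_isPushout (f := f') (g := p.toAlgHom.toRingHom) (l := π.hom) (r := f)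
    hp hpo
  have hqπ : q.comp π.hom = q' := by
    have : π ≫ CommRingCat.ofHom q = CommRingCat.ofHom q' := Spec.map_injective (by
      rw [Spec.map_comp, hπ, ← cancel_mono w.hom, hw2, Category.assoc, Category.assoc, Category.assoc,
        Iso.inv_hom_id, Category.comp_id, ← Category.assoc, hu₂, i_incl'])
    exact congrArg CommRingCat.Hom.hom this
  letI : Algebra C' E := f'.toAlgebra
  haveI : Module.Flat C' E := hflat
  let πA : (E : Type u) →ₐ[C'] B :=
    { π.hom with
      commutes' := fun c => by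
        rw [hf]
        exact RingHom.congr_fun (congrArg CommRingCat.Hom.hom hpo.w) c }
  choose s hs using fun b₀ => hq' b₀
  have hind : ∀ (j : (RingHom.ker p.toAlgHom)) (x y : E), q' x = q' y → x * f' j.1 = y * f' j.1 := by
    intro j x y hxy
    have hmem : x - y ∈ (maximalIdeal C').map f' := by
      rw [← hkq', RingHom.mem_ker, map_sub, hxy, sub_self]
    have h0 : (x - y) * f' j.1 = 0 := by
      generalize x - y = z at hmem
      induction hmem using Submodule.span_induction with
      | mem z hz =>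
        obtain ⟨c, hc, rfl⟩ := hz
        have : c * j.1 = 0 := by
          have h : c * j.1 ∈ maximalIdeal C' * (RingHom.ker p.toAlgHom) := Ideal.mul_mem_mul hc j.2
          rwa [hB.annih, Ideal.mem_bot] at h
        rw [← map_mul, this, _root_.map_zero]
      | zero => rw [zero_mul]
      | add a b _ _ ha hb => rw [add_mul, ha, hb, add_zero]
      | smul r a _ ha => rw [smul_eq_mul, mul_assoc, ha, mul_zero]
    rwa [sub_mul, sub_eq_zero] at h0
  let ι : M₀ B₀ (RingHom.ker p.toAlgHom) →+ (E : Type u) := TensorProduct.liftAddHom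
    { toFun := fun b₀ =>
        { toFun := fun j => s b₀ * f' j.1
          map_zero' := by rw [ZeroMemClass.coe_zero, _root_.map_zero, mul_zero]
          map_add' := fun j j' => by rw [Submodule.coe_add, map_add, mul_add] }
      map_zero' := AddMonoidHom.ext fun j => by
        change s 0 * f' j.1 = 0
        rw [hind j (s 0) 0 (by rw [hs, _root_.map_zero]), zero_mul]
      map_add' := fun x y => AddMonoidHom.ext fun j => by
        change s (x + y) * f' j.1 = s x * f' j.1 + s y * f' j.1
        rw [← add_mul]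
        exact hind j _ _ (by rw [hs, map_add, hs, hs]) }
    (fun c b₀ j => by
      change s (c • b₀) * f' j.1 = s b₀ * f' ((c • j : (RingHom.ker p.toAlgHom)) : C')
      rw [show ((c • j : (RingHom.ker p.toAlgHom)) : C') = c • (j.1 : C') from rfl, Algebra.smul_def c (j.1 : C'), map_mul,
        ← mul_assoc]
      refine hind j _ _ ?_
      rw [hs, map_mul, hs, ← RingHom.comp_apply q', hqf', RingHom.comp_apply, Algebra.smul_def,
        mul_comm]
      exact congrArg (b₀ * algebraMap k B₀ ·) (C'.res.commutes c).symm)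
  have hι : ∀ (x : E) (j : (RingHom.ker p.toAlgHom)), ι (q' x ⊗ₜ j) = x * f' j.1 := fun x j =>
    (TensorProduct.liftAddHom_tmul _ _ _ _).trans (hind j _ _ (hs _))
  have hπq' : ∀ x : E, q (πA x) = q' x := fun x => RingHom.congr_fun hqπ x
  have hmul : ∀ (r : E) (m : M₀ B₀ (RingHom.ker p.toAlgHom)), r * ι m ∈ Set.range ι := fun r m => by
    induction m using TensorProduct.induction_on with
    | zero => exact ⟨0, by rw [_root_.map_zero, mul_zero]⟩
    | add m n hm hn =>
      obtain ⟨m', hm'⟩ := hm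
      obtain ⟨n', hn'⟩ := hn
      exact ⟨m' + n', by rw [map_add, map_add, hm', hn', mul_add]⟩
    | tmul b₀ j =>
      obtain ⟨y, rfl⟩ := hq' b₀
      exact ⟨q' (r * y) ⊗ₜ j, by rw [hι, hι, mul_assoc]⟩
  have hexact : ∀ x : E, πA x = 0 ↔ x ∈ Set.range ι := by
    intro x
    constructor
    · intro hx
      have hx' : x ∈ (RingHom.ker p.toAlgHom).map f' := hπk.le hx
      induction hx' using Submodule.span_induction with
      | mem z hz =>
        obtain ⟨j, hj, rfl⟩ := hz
        exact ⟨q' 1 ⊗ₜ ⟨j, hj⟩, by rw [hι, one_mul]⟩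
      | zero => exact ⟨0, _root_.map_zero _⟩
      | add a b ha' hb' iha ihb =>
        obtain ⟨m, hm⟩ := iha (hπk.ge ha')
        obtain ⟨n, hn⟩ := ihb (hπk.ge hb')
        exact ⟨m + n, by rw [map_add, hm, hn]⟩
      | smul r a ha' iha =>
        obtain ⟨m, rfl⟩ := iha (hπk.ge ha')
        exact hmul r m
    · rintro ⟨m, rfl⟩
      induction m using TensorProduct.induction_on with
      | zero => rw [_root_.map_zero, _root_.map_zero]
      | add m n hm hn => rw [map_add, map_add, hm, hn, add_zero]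
      | tmul b₀ j =>
        obtain ⟨y, rfl⟩ := hq' b₀
        rw [hι, map_mul, show f' j.1 = algebraMap C' E j.1 from rfl, AlgHom.commutes,
          hB.kills _ j.2, mul_zero]
  have hinj : Function.Injective ι := by
    let S : (E : Type u) ⊗[C'] (RingHom.ker p.toAlgHom) →+ M₀ B₀ (RingHom.ker p.toAlgHom) := TensorProduct.liftAddHom
      { toFun := fun x =>
          { toFun := fun j => q' x ⊗ₜ j
            map_zero' := tmul_zero _ _
            map_add' := fun j j' => tmul_add _ _ _ }
        map_zero' := AddMonoidHom.ext fun j => by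
          change q' 0 ⊗ₜ j = 0
          rw [_root_.map_zero, zero_tmul]
        map_add' := fun x y => AddMonoidHom.ext fun j => by
          change q' (x + y) ⊗ₜ j = q' x ⊗ₜ j + q' y ⊗ₜ j
          rw [map_add, add_tmul] }
      (fun c x j => by
        change q' (f' c * x) ⊗ₜ j = q' x ⊗ₜ (c • j)
        rw [map_mul, ← RingHom.comp_apply q', hqf', RingHom.comp_apply, ← Algebra.smul_def,
          TensorProduct.smul_tmul]
        congr 1
        apply Subtype.ext
        change C'.res c • (j.1 : C') = c * j.1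
        have hmem : c - algebraMap k C' (C'.res c) ∈ maximalIdeal C' := by
          rw [Art.mem_maximalIdeal_iff, map_sub, AlgHom.commutes]
          exact sub_self _
        have h : (c - algebraMap k C' (C'.res c)) * j.1 ∈ maximalIdeal C' * (RingHom.ker p.toAlgHom) :=
          Ideal.mul_mem_mul hmem j.2
        rw [hB.annih, Ideal.mem_bot, sub_mul, sub_eq_zero] at h
        rw [h, Algebra.smul_def])
    have hS : Function.Surjective S := by
      intro m
      induction m using TensorProduct.induction_on with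
      | zero => exact ⟨0, _root_.map_zero _⟩
      | add a b ha hb =>
        obtain ⟨x, rfl⟩ := ha
        obtain ⟨y, rfl⟩ := hb
        exact ⟨x + y, map_add _ _ _⟩
      | tmul b₀ j =>
        obtain ⟨y, rfl⟩ := hq' b₀
        exact ⟨y ⊗ₜ j, rfl⟩
    let μ : (E : Type u) ⊗[C'] (RingHom.ker p.toAlgHom) →ₗ[C'] (E : Type u) :=
      (TensorProduct.rid C' E).toLinearMap ∘ₗ (RingHom.ker p.toAlgHom).subtype.lTensor E
    have hμ : Function.Injective μ := (TensorProduct.rid C' E).injective.comp
      (Module.Flat.lTensor_preserves_injective_linearMap _ Subtype.val_injective)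
    have hcomp : ∀ z, ι (S z) = μ z := by
      intro z
      induction z using TensorProduct.induction_on with
      | zero => rw [_root_.map_zero, _root_.map_zero, _root_.map_zero]
      | add a b ha hb => rw [map_add, map_add, ha, hb, map_add]
      | tmul x j =>
        refine (hι x j).trans ?_
        rw [mul_comm]
        exact (Algebra.smul_def j.1 x).symm.trans (TensorProduct.rid_tmul x j.1).symm
    intro m n hmn
    obtain ⟨x, rfl⟩ := hS m
    obtain ⟨y, rfl⟩ := hS n
    rw [hcomp, hcomp] at hmn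
    rw [hμ hmn]
  let X : Exal.Ext C' B (M₀ B₀ (RingHom.ker p.toAlgHom)) :=
    { E := E
      proj := πA
      incl := ι
      isExtension :=
        { proj_surjective := hπs
          incl_injective := hinj
          exact := hexact
          mul_incl := fun x m => by
            induction m using TensorProduct.induction_on with
            | zero => rw [_root_.map_zero, mul_zero, smul_zero, _root_.map_zero]
            | add m n hm hn => rw [map_add, mul_add, hm, hn, smul_add, map_add]
            | tmul b₀ j =>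
              obtain ⟨y, rfl⟩ := hq' b₀
              rw [hι, hB.smul, hπq', TensorProduct.smul_tmul', smul_eq_mul, ← map_mul, hι, mul_assoc] } }
  refine ⟨X, fun j => ?_, w, hw1, ?_⟩
  · change ι ((1 : B₀) ⊗ₜ j) = f' j.1
    rw [← map_one q', hι, one_mul]
  · change Spec.map π ≫ w.hom = _
    rw [hπ, Category.assoc, Category.assoc, Iso.inv_hom_id, Category.comp_id]

include hB hu₁ hu₂ hf hp in
theorem exists_extns_of_norm (X : Exal.Ext C' B (M₀ B₀ (RingHom.ker p.toAlgHom))) (hX : Norm X) :
    ∃ a : Extns p 𝒳, Rep u₀ a X := by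
  haveI := free_of_norm hB hX
  have hflat : Flat (Spec.map (CommRingCat.ofHom (algebraMap C' X.E))) :=
    Flat.SpecMap_iff.mpr (RingHom.flat_algebraMap_iff.mpr inferInstance)
  have hpo : IsPushout (CommRingCat.ofHom (algebraMap C' X.E)) (CommRingCat.ofHom p.toAlgHom.toRingHom)
      (CommRingCat.ofHom X.proj.toRingHom) (CommRingCat.ofHom f) :=
    isPushout_of_surj_ker hp X.isExtension.proj_surjective
      (by rw [← hf]; exact RingHom.ext fun c => X.proj.commutes c) (ker_proj hB hX)
  have hpb : IsPullback (u₀.inv ≫ Spec.map (CommRingCat.ofHom X.proj.toRingHom)) 𝒳.f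
      (Spec.map (CommRingCat.ofHom (algebraMap C' X.E))) (Art.specMap p) :=
    (isPullback_SpecMap_of_isPushout _ _ _ _ hpo).of_iso u₀ (Iso.refl _) (Iso.refl _) (Iso.refl _)
      (by simp) (by simp [hu₁]) (by simp) (by simp; rfl)
  have hpo' : IsPushout (CommRingCat.ofHom (algebraMap C' X.E)) (CommRingCat.ofHom C'.res.toRingHom)
      (CommRingCat.ofHom (q.comp X.proj.toRingHom)) (CommRingCat.ofHom (algebraMap k B₀)) :=
    isPushout_of_surj_ker C'.res_surjective (hB.surj.comp X.isExtension.proj_surjective)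
      (RingHom.ext fun c => by
        change q (X.proj (algebraMap C' X.E c)) = _
        rw [AlgHom.commutes, hB.comp]
        rfl)
      ((ker_fibre hB hX).trans (by rw [ker_res]))
  let 𝒳' : DefSch (Spec (CommRingCat.of B₀)) (strMap k B₀) C' :=
    { total := Spec (CommRingCat.of X.E)
      f := Spec.map (CommRingCat.ofHom (algebraMap C' X.E))
      flat := hflat
      i := Spec.map (CommRingCat.ofHom (q.comp X.proj.toRingHom))
      isPullback := isPullback_SpecMap_of_isPushout _ _ _ _ hpo' }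
  refine ⟨⟨𝒳', ⟨hpb.isoPullback.symm, ?_, ?_⟩⟩, hX, Iso.refl _, Category.id_comp _, ?_⟩
  · exact hpb.isoPullback_inv_snd
  · rw [Iso.symm_hom, Iso.comp_inv_eq]
    apply pullback.hom_ext
    · rw [DefSch.baseChange_i_fst, Category.assoc, hpb.isoPullback_hom_fst, ← Category.assoc,
        ← hu₂, Category.assoc _ u₀.hom, Iso.hom_inv_id, Category.comp_id, ← Spec.map_comp]
      rfl
    · rw [Category.assoc, hpb.isoPullback_hom_snd]
      exact (DefSch.baseChange_i_f 𝒳' p).trans 𝒳.i_f.symm
  · change _ ≫ 𝟙 _ = u₀.hom ≫ (hpb.isoPullback.symm.inv ≫ pullback.fst _ _)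
    rw [Category.comp_id, Iso.symm_inv, hpb.isoPullback_hom_fst, Iso.hom_inv_id_assoc]

end Exist

end Ring

/-- Classes of extensions are in bijection with `T¹`, when one exists. -/
theorem nonempty_equiv (hp : Art.IsSemismallExt p) (hne : Nonempty (Extns p 𝒳)) :
    Nonempty (Quot (ExtRel p 𝒳) ≃
      CotT.T1 (CotT.canon k B₀) (B₀ ⊗[k] ↥(RingHom.ker p.toAlgHom))) := by
  obtain ⟨Bc, f, q, u₀, hu₁, hu₂, hflat, hqs, hqk, hqf⟩ :=
    exists_aff (xr := algebraMap k B₀) rfl 𝒳
  letI : Algebra C' Bc := (f.comp p.toAlgHom.toRingHom).toAlgebra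
  letI : Module Bc (M₀ B₀ (RingHom.ker p.toAlgHom)) := Module.compHom _ q
  have hres : ∀ c, C.res (p.toAlgHom c) = C'.res c := fun c => Art.res_app p c
  have hpm : (maximalIdeal C').map p.toAlgHom.toRingHom = maximalIdeal C := by
    refine le_antisymm (Ideal.map_le_iff_le_comap.2 fun c hc => ?_) fun c hc => ?_
    · rw [Ideal.mem_comap, Art.mem_maximalIdeal_iff]
      exact (hres c).trans ((Art.mem_maximalIdeal_iff C' c).1 hc)
    · obtain ⟨c', rfl⟩ := hp.1 c
      refine Ideal.mem_map_of_mem _ ?_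
      rw [Art.mem_maximalIdeal_iff, ← hres]
      exact (Art.mem_maximalIdeal_iff C _).1 hc
  have hbasis : ∃ (ι : Type u) (v : ι → Bc), Submodule.span C' (Set.range v) = ⊤ ∧
      ∀ c : ι →₀ C', Finsupp.linearCombination C' v c = 0 → ∀ i, c i ∈ RingHom.ker p.toAlgHom := by
    letI : Algebra C Bc := f.toAlgebra
    haveI : Module.Flat C Bc := hflat
    haveI := Groth.Agent.TFun.free_of_flat (A := C) Bc
    let b := Module.Free.chooseBasis C Bc
    refine ⟨_, b, top_le_iff.1 fun x _ => ?_, fun c hc i => ?_⟩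
    · rw [← b.linearCombination_repr x, Finsupp.linearCombination_apply]
      refine Submodule.sum_mem _ fun i _ => ?_
      obtain ⟨c', hc'⟩ := hp.1 (b.repr x i)
      have : b.repr x i • b i = c' • b i := by
        rw [Algebra.smul_def, Algebra.smul_def, ← hc']
        rfl
      dsimp only
      rw [this]
      exact Submodule.smul_mem _ _ (Submodule.subset_span ⟨i, rfl⟩)
    · have h : Finsupp.linearCombination C b (c.mapRange p.toAlgHom (_root_.map_zero _)) = 0 := by
        rw [Finsupp.linearCombination_apply, Finsupp.sum_mapRange_index (h := fun i (a : C) => a • b i) (fun i => zero_smul C (b i))]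
        rw [Finsupp.linearCombination_apply] at hc
        exact hc
      exact DFunLike.congr_fun (linearIndependent_iff.1 b.linearIndependent _ h) i
  have hB : Base (RingHom.ker p.toAlgHom) (Bc : Type u) q :=
    { surj := hqs
      ker_eq := by
        rw [hqk, ← hpm, Ideal.map_map]
        rfl
      comp := fun c => by
        change q (f (p.toAlgHom c)) = _
        rw [← RingHom.comp_apply q, hqf, RingHom.comp_apply]
        exact congrArg _ (hres c)
      le := fun c hc => by
        rw [Art.mem_maximalIdeal_iff, ← hres, show p.toAlgHom c = 0 from hc, _root_.map_zero]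
      annih := hp.2
      kills := fun j hj => by
        change f (p.toAlgHom j) = 0
        rw [show p.toAlgHom j = 0 from hj, _root_.map_zero]
      smul := fun b m => rfl
      basis := hbasis }
  choose X hX using fun a => exists_rep hB u₀ hu₁ hu₂ rfl hp.1 a
  let Φ : Quot (ExtRel p 𝒳) → NormClasses (B₀ := B₀) (RingHom.ker p.toAlgHom) (Bc : Type u) :=
    Quot.lift (fun a => ⟨(X a).cl, X a, (hX a).1, rfl⟩)
      (fun a b h => Subtype.ext (rep_cl_eq hB u₀ h (hX a) (hX b)))
  have hΦ : Function.Bijective Φ := by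
    refine ⟨fun a b => ?_, fun ⟨c, Y, hY, hYc⟩ => ?_⟩
    · induction a using Quot.ind with | _ a => ?_
      induction b using Quot.ind with | _ b => ?_
      exact fun h => Quot.sound (extRel_of_rep u₀ (hX a) (hX b) (congrArg Subtype.val h))
    · obtain ⟨a, ha⟩ := exists_extns_of_norm hB u₀ hu₁ hu₂ rfl hp.1 Y hY
      refine ⟨Quot.mk _ a, Subtype.ext ((rep_cl_eq hB u₀ ?_ (hX a) ha).trans hYc)⟩
      exact (extRel_iff a a).2 ⟨Iso.refl _, Category.id_comp _, Category.comp_id _⟩
  obtain ⟨a₀⟩ := hne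
  obtain ⟨e⟩ := nonempty_equiv_T1 hB (X a₀) (hX a₀).1
  exact ⟨(Equiv.ofBijective Φ hΦ).trans e⟩

end Groth.Agent.DefAff
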