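import Groth.Agent.CotLib.ExalT1
import Groth.Agent.TFun.Artinian
import Groth.Prelude.Def_ArtFun
import Mathlib.RingTheory.MvPolynomial.Basic
import Mathlib.RingTheory.Ideal.Operations

/-!
# Normalised extensions over an Artin ring and `T¹`

`B` is a deformation of `B₀` killed by `J ⊆ C'`, free modulo `J`; an extension of `B` by `B₀ ⊗ J` is normalised
when it restricts to the tautological map on `J`.  If one exists, the classes of normalised extensions are
in bijection with `T¹(B₀/k, B₀ ⊗ J)`.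
-/

set_option autoImplicit false
set_option linter.unusedSectionVars false
universe u

open TensorProduct IsLocalRing

namespace Groth.Agent.DefAff

open Groth.Agent.CotLib

variable {k : Type u} [Field k] {B₀ : Type u} [CommRing B₀] [Algebra k B₀]
variable {C' : ArtFun.Art k k} (J : Ideal C')

/-- The coefficient module `B₀ ⊗ J`. -/
abbrev M₀ (B₀ : Type u) [CommRing B₀] [Algebra k B₀] (J : Ideal C') : Type u := B₀ ⊗[k] ↥J

variable (B : Type u) [CommRing B] [Algebra C' B] [Module B (M₀ B₀ J)]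

/-- The standing hypotheses on `B`. -/
structure Base (q : B →+* B₀) : Prop where
  surj : Function.Surjective q
  ker_eq : RingHom.ker q = (maximalIdeal C').map (algebraMap C' B)
  comp : ∀ c : C', q (algebraMap C' B c) = algebraMap k B₀ (C'.res c)
  le : J ≤ maximalIdeal C'
  annih : maximalIdeal C' * J = ⊥
  kills : ∀ j ∈ J, algebraMap C' B j = 0
  smul : ∀ (b : B) (m : M₀ B₀ J), b • m = q b • m
  basis : ∃ (ι : Type u) (v : ι → B), Submodule.span C' (Set.range v) = ⊤ ∧
    ∀ c : ι →₀ C', Finsupp.linearCombination C' v c = 0 → ∀ i, c i ∈ J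

variable {J B} {q : B →+* B₀}

/-- The normalisation of an extension. -/
def Norm (X : Exal.Ext C' B (M₀ B₀ J)) : Prop :=
  ∀ j : J, X.incl ((1 : B₀) ⊗ₜ j) = algebraMap C' X.E j

theorem Norm.of_equiv {X Y : Exal.Ext C' B (M₀ B₀ J)} (e : Exal.Ext.Equiv X Y) (h : Norm X) : Norm Y :=
  fun j => by rw [← e.apply_incl, h j, AlgEquiv.commutes]

theorem incl_tmul (hB : Base J B q) {X : Exal.Ext C' B (M₀ B₀ J)} (h : Norm X) (b₀ : B₀) (j : J)
    (x : X.E) (hx : q (X.proj x) = b₀) : X.incl (b₀ ⊗ₜ j) = x * algebraMap C' X.E j := by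
  rw [← h j, X.isExtension.mul_incl, hB.smul, hx, TensorProduct.smul_tmul', smul_eq_mul, mul_one]

theorem incl_mem (hB : Base J B q) {X : Exal.Ext C' B (M₀ B₀ J)} (h : Norm X) (m : M₀ B₀ J) :
    X.incl m ∈ J.map (algebraMap C' X.E) := by
  induction m using TensorProduct.induction_on with
  | zero =>
    rw [_root_.map_zero]
    exact zero_mem _
  | add x y hx hy =>
    rw [map_add]
    exact add_mem hx hy
  | tmul b₀ j =>
    obtain ⟨b, rfl⟩ := hB.surj b₀
    obtain ⟨x, rfl⟩ := X.isExtension.proj_surjective b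
    rw [incl_tmul hB h _ j x rfl]
    exact Ideal.mul_mem_left _ _ (Ideal.mem_map_of_mem _ j.2)

theorem ker_proj (hB : Base J B q) {X : Exal.Ext C' B (M₀ B₀ J)} (h : Norm X) :
    RingHom.ker X.proj.toRingHom = J.map (algebraMap C' X.E) := by
  refine le_antisymm (fun x hx => ?_) (Ideal.map_le_iff_le_comap.2 fun j hj => ?_)
  · obtain ⟨m, rfl⟩ := (X.isExtension.exact x).1 hx
    exact incl_mem hB h m
  · change X.proj (algebraMap C' X.E j) = 0
    rw [AlgHom.commutes, hB.kills j hj]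

theorem ker_fibre (hB : Base J B q) {X : Exal.Ext C' B (M₀ B₀ J)} (h : Norm X) :
    RingHom.ker (q.comp X.proj.toRingHom) = (maximalIdeal C').map (algebraMap C' X.E) := by
  have hk : RingHom.ker (q.comp X.proj.toRingHom) =
      Ideal.comap X.proj.toRingHom ((maximalIdeal C').map (algebraMap C' B)) := by
    rw [← RingHom.comap_ker, hB.ker_eq]
  rw [hk, show algebraMap C' B = X.proj.toRingHom.comp (algebraMap C' X.E) from
    (RingHom.ext fun c => (X.proj.commutes c).symm), ← Ideal.map_map,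
    Ideal.comap_map_of_surjective X.proj.toRingHom X.isExtension.proj_surjective, ← RingHom.ker_eq_comap_bot,
    ker_proj hB h, sup_eq_left]
  exact Ideal.map_mono hB.le

theorem smul_eq_zero_of_mem (hB : Base J B q) {c : C'} (hc : c ∈ maximalIdeal C') (m : M₀ B₀ J) :
    algebraMap C' B c • m = 0 := by
  rw [hB.smul, hB.comp, (ArtFun.Art.mem_maximalIdeal_iff C' c).1 hc, _root_.map_zero, zero_smul]

/-- A normalised extension is free over `C'`. -/
theorem free_of_norm (hB : Base J B q) {X : Exal.Ext C' B (M₀ B₀ J)} (h : Norm X) :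
    Module.Free C' X.E := by
  classical
  obtain ⟨ι, v, hspan, hind⟩ := hB.basis
  choose s hs using fun i => X.isExtension.proj_surjective (v i)
  have hs' : ∀ c : ι →₀ C', X.proj (Finsupp.linearCombination C' s c) =
      Finsupp.linearCombination C' v c := by
    intro c
    rw [Finsupp.linearCombination_apply, Finsupp.linearCombination_apply, map_finsuppSum]
    simp [hs]
  have hmaxk : ∀ z : ι →₀ C', q (Finsupp.linearCombination C' v z) =
      z.sum fun i c => C'.res c • q (v i) := by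
    intro z
    rw [Finsupp.linearCombination_apply, map_finsuppSum]
    exact Finsupp.sum_congr fun i _ => by rw [Algebra.smul_def, map_mul, hB.comp, Algebra.smul_def]
  have hspan₀ : Submodule.span k (Set.range (q ∘ v)) = ⊤ := by
    refine top_le_iff.1 fun b₀ _ => ?_
    obtain ⟨b, rfl⟩ := hB.surj b₀
    obtain ⟨z, rfl⟩ := (Finsupp.mem_span_range_iff_exists_finsupp).1
      (hspan ▸ Submodule.mem_top : b ∈ Submodule.span C' (Set.range v))
    rw [show (z.sum fun i c => c • v i) = Finsupp.linearCombination C' v z from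
      (Finsupp.linearCombination_apply C' z).symm, hmaxk]
    exact Submodule.sum_mem _ fun i _ => Submodule.smul_mem _ _ (Submodule.subset_span ⟨i, rfl⟩)
  have hind₀ : LinearIndependent k (q ∘ v) := by
    rw [linearIndependent_iff]
    intro a ha
    let a' : ι →₀ C' := a.mapRange (algebraMap k C') (_root_.map_zero _)
    have hq : Finsupp.linearCombination C' v a' ∈ RingHom.ker q := by
      rw [RingHom.mem_ker, hmaxk, Finsupp.sum_mapRange_index (by simp)]
      rw [Finsupp.linearCombination_apply] at ha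
      simpa [AlgHom.commutes] using ha
    rw [hB.ker_eq] at hq
    obtain ⟨z, hz⟩ : ∃ z : ι →₀ C', (∀ i, z i ∈ maximalIdeal C') ∧
        Finsupp.linearCombination C' v z = Finsupp.linearCombination C' v a' := by
      have h2 : Finsupp.linearCombination C' v a' ∈ maximalIdeal C' • (⊤ : Submodule C' B) := by
        rw [Ideal.smul_top_eq_map]
        exact hq
      rw [← hspan, Submodule.mem_ideal_smul_span_iff_exists_sum] at h2
      obtain ⟨z, hz, hsum⟩ := h2
      exact ⟨z, hz, (Finsupp.linearCombination_apply C' z).trans hsum⟩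
    have h0 := hind (a' - z) (by rw [map_sub, hz.2, sub_self])
    ext i
    have h1 : a' i ∈ maximalIdeal C' := by
      have := add_mem (hB.le (h0 i)) (hz.1 i)
      simpa using this
    have h2 := (ArtFun.Art.mem_maximalIdeal_iff C' _).1 h1
    simpa [a', AlgHom.commutes] using h2
  let e₀ : Module.Basis ι k B₀ := Module.Basis.mk hind₀ hspan₀.ge
  have he₀ : ∀ i, e₀ i = q (v i) := fun i => congrFun (Module.Basis.coe_mk hind₀ hspan₀.ge) i
  refine Module.Free.of_basis (Module.Basis.mk (v := s) ?_ ?_)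
  · rw [linearIndependent_iff]
    intro c hc
    have hcJ : ∀ i, c i ∈ J := hind c (by rw [← hs', hc, _root_.map_zero])
    have h1 : X.incl (∑ i ∈ c.support, q (v i) ⊗ₜ (⟨c i, hcJ i⟩ : J)) = 0 := by
      rw [map_sum, ← hc, Finsupp.linearCombination_apply, Finsupp.sum]
      refine Finset.sum_congr rfl fun i _ => ?_
      rw [incl_tmul hB h _ _ (s i) (by rw [hs]), Algebra.smul_def, mul_comm]
    have h2 := X.isExtension.incl_injective (h1.trans (_root_.map_zero _).symm)
    ext i₀
    have h3 := congrArg ((TensorProduct.lid k J).toLinearMap ∘ₗ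
      (e₀.coord i₀).rTensor J) h2
    rw [map_sum, _root_.map_zero] at h3
    simp only [LinearMap.coe_comp, LinearEquiv.coe_coe, Function.comp_apply, LinearMap.rTensor_tmul,
      TensorProduct.lid_tmul, ← he₀, Module.Basis.coord_apply, Module.Basis.repr_self,
      Finsupp.single_apply, ite_smul, one_smul, zero_smul, Finset.sum_ite_eq'] at h3
    rw [Finsupp.zero_apply]
    by_cases hi : i₀ ∈ c.support
    · rw [if_pos hi] at h3
      exact congrArg Subtype.val h3
    · exact Finsupp.notMem_support_iff.1 hi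
  · refine (Groth.Agent.TFun.eq_top_of_sup_maximalIdeal_smul (top_le_iff.1 fun x _ => ?_)).ge
    obtain ⟨z, hz⟩ := (Finsupp.mem_span_range_iff_exists_finsupp).1
      (hspan ▸ Submodule.mem_top : X.proj x ∈ Submodule.span C' (Set.range v))
    rw [← add_sub_cancel (Finsupp.linearCombination C' s z) x]
    refine Submodule.add_mem_sup (Finsupp.mem_span_range_iff_exists_finsupp.2
      ⟨z, (Finsupp.linearCombination_apply C' z).symm⟩) ?_
    rw [Ideal.smul_top_eq_map]
    refine Ideal.map_mono hB.le ?_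
    rw [← ker_proj hB h]
    change X.proj (x - _) = 0
    rw [map_sub, hs', Finsupp.linearCombination_apply, hz, sub_self]

section Classify

variable (q) in
/-- The polynomial ring lifting the choice-free one. -/
abbrev R' : Type u := MvPolynomial B₀ C'

/-- Reduction of coefficients. -/
noncomputable def ρ₀ : MvPolynomial B₀ C' →+* ExalT1.R k B₀ :=
  MvPolynomial.map C'.res.toRingHom

theorem ρ₀_C (c : C') :
    ρ₀ (MvPolynomial.C c : MvPolynomial B₀ C') = algebraMap k (ExalT1.R k B₀) (C'.res c) :=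
  MvPolynomial.map_C C'.res.toRingHom c

theorem ρ₀_X (i : B₀) :
    ρ₀ (MvPolynomial.X i : MvPolynomial B₀ C') = (MvPolynomial.X i : ExalT1.R k B₀) :=
  MvPolynomial.map_X C'.res.toRingHom i

/-- `b ↦` a lift, extended to polynomials. -/
noncomputable def π' (hB : Base J B q) : MvPolynomial B₀ C' →ₐ[C'] B :=
  MvPolynomial.aeval fun b₀ => Function.surjInv hB.surj b₀

theorem π_ρ₀ (hB : Base J B q) (r : MvPolynomial B₀ C') :
    ExalT1.π k B₀ (ρ₀ r) = q (π' hB r) := by
  induction r using MvPolynomial.induction_on with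
  | C c =>
    rw [ρ₀_C, π', MvPolynomial.aeval_C, hB.comp]
    exact ((ExalT1.π k B₀).commutes _)
  | add x y hx hy => rw [map_add, map_add, hx, hy, map_add, map_add]
  | mul_X x i hx =>
    rw [map_mul, map_mul, hx, map_mul, map_mul]
    congr 1
    rw [ρ₀_X, π', MvPolynomial.aeval_X, Function.surjInv_eq hB.surj]
    exact (CotT.algebraMap_toExtension (CotT.canon k B₀) _).trans (MvPolynomial.aeval_X _ _)

theorem eq_top_of_fibre {E : Type u} [CommRing E] [Algebra C' E] (f : MvPolynomial B₀ C' →ₐ[C'] E)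
    (qE : E →+* B₀) (hk : RingHom.ker qE ≤ (maximalIdeal C').map (algebraMap C' E))
    (hX : ∀ b₀, qE (f (MvPolynomial.X b₀)) = b₀) : Function.Surjective f := by
  have h : LinearMap.range f.toLinearMap = ⊤ := by
    refine Groth.Agent.TFun.eq_top_of_sup_maximalIdeal_smul (top_le_iff.1 fun x _ => ?_)
    rw [← add_sub_cancel (f (MvPolynomial.X (qE x))) x]
    refine Submodule.add_mem_sup ⟨_, rfl⟩ ?_
    rw [Ideal.smul_top_eq_map]
    apply hk
    rw [RingHom.mem_ker, map_sub, hX, sub_self]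
  exact LinearMap.range_eq_top.1 h

theorem π'_X (hB : Base J B q) (b₀ : B₀) : q (π' hB (MvPolynomial.X b₀)) = b₀ := by
  rw [π', MvPolynomial.aeval_X]
  exact Function.surjInv_eq hB.surj b₀

theorem π'_surjective (hB : Base J B q) : Function.Surjective (π' hB) :=
  eq_top_of_fibre _ q hB.ker_eq.le (π'_X hB)

/-- Reduction on the kernels. -/
noncomputable def ρ (hB : Base J B q) (x : RingHom.ker (π' hB)) :
    RingHom.ker (ExalT1.π k B₀) :=
  ⟨ρ₀ x.1, by rw [RingHom.mem_ker, π_ρ₀ hB, show π' hB x.1 = 0 from x.2, _root_.map_zero]⟩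

theorem ρ₀_surjective : Function.Surjective (ρ₀ (k := k) (B₀ := B₀) (C' := C')) :=
  MvPolynomial.map_surjective _ C'.res_surjective

theorem ker_ρ₀ {r : MvPolynomial B₀ C'} (h : ρ₀ r = (0 : ExalT1.R k B₀)) :
    r ∈ maximalIdeal C' • (⊤ : Submodule C' (MvPolynomial B₀ C')) := by
  rw [Ideal.smul_top_eq_map, Submodule.restrictScalars_mem,
    show algebraMap C' (MvPolynomial B₀ C') = MvPolynomial.C from rfl,
    MvPolynomial.mem_map_C_iff]
  intro m
  rw [ArtFun.Art.mem_maximalIdeal_iff]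
  exact (MvPolynomial.coeff_map C'.res.toRingHom r m).symm.trans
    ((congrArg (MvPolynomial.coeff (R := k) m) h).trans (MvPolynomial.coeff_zero m))

theorem ρ_surjective (hB : Base J B q) : Function.Surjective (ρ hB) := by
  rintro ⟨f, hf⟩
  obtain ⟨r, rfl⟩ := ρ₀_surjective (C' := C') f
  have hr : π' hB r ∈ RingHom.ker q := by
    rw [RingHom.mem_ker, ← π_ρ₀ hB]
    exact hf
  rw [hB.ker_eq, show algebraMap C' B = (π' hB).toRingHom.comp (algebraMap C' _) from
    (RingHom.ext fun c => ((π' hB).commutes c).symm), ← Ideal.map_map] at hr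
  obtain ⟨g, hg, hg'⟩ := (Ideal.mem_map_iff_of_surjective (π' hB).toRingHom (π'_surjective hB)).1 hr
  refine ⟨⟨r - g, ?_⟩, Subtype.ext ?_⟩
  · rw [RingHom.mem_ker, map_sub, sub_eq_zero]
    exact hg'.symm
  · change ρ₀ (r - g) = ρ₀ r
    have hle : (maximalIdeal C').map (algebraMap C' (MvPolynomial B₀ C')) ≤
        RingHom.ker (ρ₀ (k := k) (B₀ := B₀) (C' := C')) := Ideal.map_le_iff_le_comap.2 fun c hc => by
      change MvPolynomial.map C'.res.toRingHom (MvPolynomial.C c) = 0
      rw [MvPolynomial.map_C,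
        show C'.res.toRingHom c = 0 from (ArtFun.Art.mem_maximalIdeal_iff C' c).1 hc, MvPolynomial.C_0]
    rw [map_sub, show ρ₀ g = 0 from hle hg, sub_zero]

open ExalPres

/-- Twist by a class over `k`. -/
noncomputable def twist (hB : Base J B q) (φ : Phi (π' hB) (M₀ B₀ J))
    (δ : Phi (ExalT1.π k B₀) (M₀ B₀ J)) : Phi (π' hB) (M₀ B₀ J) where
  toFun x := φ x + δ (ρ hB x)
  map_add' x y := by
    rw [φ.map_add', δ.congr (x := ρ hB (x + y)) (y := ρ hB x + ρ hB y) (map_add ρ₀ x.1 y.1),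
      δ.map_add']
    abel
  map_smul' r x := by
    rw [φ.map_smul', δ.congr (x := ρ hB (r • x)) (y := ρ₀ r • ρ hB x) (map_mul ρ₀ r x.1),
      δ.map_smul', smul_add, π_ρ₀ hB, ← hB.smul]

/-- The element `C j` of the kernel. -/
noncomputable def kerC (hB : Base J B q) (j : J) : RingHom.ker (π' hB) :=
  ⟨MvPolynomial.C j.1, by
    rw [RingHom.mem_ker, π', MvPolynomial.aeval_C]
    exact hB.kills _ j.2⟩

theorem norm_E_iff (hB : Base J B q) (φ : Phi (π' hB) (M₀ B₀ J)) :
    Norm (ExalPres.E (π'_surjective hB) φ) ↔ ∀ j : J, φ (kerC hB j) = (1 : B₀) ⊗ₜ j := by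
  obtain ⟨Φ, -, hΦ⟩ := lifts_E (π'_surjective hB) φ
  have key : ∀ j : J, (ExalPres.E (π'_surjective hB) φ).incl (φ (kerC hB j)) = algebraMap C' _ j.1 :=
    fun j => (hΦ _).symm.trans (Φ.commutes j.1)
  refine ⟨fun h j => (ExalPres.E (π'_surjective hB) φ).isExtension.incl_injective
    ((key j).trans (h j).symm), fun h j => ?_⟩
  rw [← h j]
  exact key j

theorem ρ₀_kerC (hB : Base J B q) (j : J) : ρ₀ (kerC hB j).1 = (0 : ExalT1.R k B₀) := by
  change MvPolynomial.map C'.res.toRingHom (MvPolynomial.C j.1) = 0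
  rw [MvPolynomial.map_C,
    show C'.res.toRingHom j.1 = 0 from (ArtFun.Art.mem_maximalIdeal_iff C' _).1 (hB.le j.2),
    MvPolynomial.C_0]

/-- A difference of normalised maps factors through the closed fibre. -/
theorem exists_twist (hB : Base J B q) {φ₀ φ : Phi (π' hB) (M₀ B₀ J)}
    (h₀ : Norm (ExalPres.E (π'_surjective hB) φ₀)) (h : Norm (ExalPres.E (π'_surjective hB) φ)) :
    ∃ δ, twist hB φ₀ δ = φ := by
  classical
  obtain ⟨X, hXdef⟩ : ∃ X, X = ExalPres.E (π'_surjective hB) φ₀ := ⟨_, rfl⟩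
  obtain ⟨Φ, hΦ, hφ⟩ : Lifts φ₀ X := hXdef ▸ lifts_E _ φ₀
  have hN : Norm X := hXdef ▸ h₀
  have hΦs : Function.Surjective Φ :=
    eq_top_of_fibre Φ (q.comp X.proj.toRingHom) (ker_fibre hB hN).le (fun b₀ => by
      change q (X.proj (Φ (MvPolynomial.X b₀))) = b₀
      rw [hΦ, π'_X])
  haveI := free_of_norm hB hN
  obtain ⟨σ, hσ⟩ := Module.projective_lifting_property Φ.toLinearMap LinearMap.id hΦs
  let d : RingHom.ker (π' hB) → M₀ B₀ J := fun x => φ x - φ₀ x
  have dadd : ∀ x y, d (x + y) = d x + d y := fun x y => by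
    simp only [d, φ.map_add', φ₀.map_add']
    abel
  have dsmul : ∀ r x, d (r • x) = π' hB r • d x := fun r x => by
    simp only [d, φ.map_smul', φ₀.map_smul', smul_sub]
  have dzero : d 0 = 0 := by simp [d, φ.map_zero, φ₀.map_zero]
  have dcongr : ∀ {x y : RingHom.ker (π' hB)}, (x : MvPolynomial B₀ C') = y → d x = d y :=
    fun h => congrArg d (Subtype.ext h)
  have dJ : ∀ z ∈ J.map (algebraMap C' (MvPolynomial B₀ C')),
      ∃ hz : z ∈ RingHom.ker (π' hB), d ⟨z, hz⟩ = 0 := by
    intro z hz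
    induction hz using Submodule.span_induction with
    | mem z hz =>
      obtain ⟨j, hj, rfl⟩ := hz
      refine ⟨(kerC hB ⟨j, hj⟩).2, ?_⟩
      exact (dcongr (y := kerC hB ⟨j, hj⟩) rfl).trans (sub_eq_zero.2
        (((norm_E_iff hB φ).1 h _).trans ((norm_E_iff hB φ₀).1 h₀ _).symm))
    | zero => exact ⟨zero_mem _, dzero⟩
    | add a b _ _ iha ihb =>
      obtain ⟨ha, ha'⟩ := iha
      obtain ⟨hb, hb'⟩ := ihb
      exact ⟨add_mem ha hb, (dadd ⟨a, ha⟩ ⟨b, hb⟩).trans (by rw [ha', hb', add_zero])⟩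
    | smul r a _ iha =>
      obtain ⟨ha, ha'⟩ := iha
      exact ⟨Submodule.smul_mem _ r ha, (dsmul r ⟨a, ha⟩).trans (by rw [ha', smul_zero])⟩
  let η : MvPolynomial B₀ C' →ₗ[C'] MvPolynomial B₀ C' := LinearMap.id - σ ∘ₗ Φ.toLinearMap
  have hηker : ∀ r, Φ (η r) = 0 := fun r => by
    change Φ (r - σ (Φ r)) = 0
    rw [map_sub, sub_eq_zero]
    exact (LinearMap.congr_fun hσ (Φ r)).symm
  have hηπ : ∀ r, η r ∈ RingHom.ker (π' hB) := fun r => by
    rw [RingHom.mem_ker, ← hΦ, hηker, _root_.map_zero]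
  have dη : ∀ r ∈ maximalIdeal C' • (⊤ : Submodule C' (MvPolynomial B₀ C')),
      d ⟨η r, hηπ r⟩ = 0 := by
    intro r hr
    induction hr using Submodule.smul_induction_on' with
    | smul c hc r _ =>
      rw [dcongr (x := ⟨η (c • r), hηπ _⟩) (y := MvPolynomial.C c • ⟨η r, hηπ r⟩)
        (by rw [Submodule.coe_smul, smul_eq_mul, ← MvPolynomial.smul_eq_C_mul]; exact map_smul η c r),
        dsmul, show (π' hB) (MvPolynomial.C c) = algebraMap C' B c from (π' hB).commutes c]
      exact smul_eq_zero_of_mem hB hc _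
    | add a _ b _ ha hb =>
      rw [dcongr (x := ⟨η (a + b), hηπ _⟩) (y := ⟨η a, hηπ a⟩ + ⟨η b, hηπ b⟩) (map_add η a b),
        dadd, ha, hb, add_zero]
  have key : ∀ x, ρ hB x = ρ hB 0 → d x = 0 := by
    intro x hx
    have hx0 : ρ₀ x.1 = (0 : ExalT1.R k B₀) :=
      (congrArg Subtype.val hx).trans (_root_.map_zero ρ₀)
    have h1 : Φ x.1 ∈ J.map (algebraMap C' X.E) := by rw [hφ]; exact incl_mem hB hN _
    rw [show algebraMap C' X.E = Φ.toRingHom.comp (algebraMap C' _) from
      (RingHom.ext fun c => (Φ.commutes c).symm), ← Ideal.map_map] at h1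
    obtain ⟨z, hz, hz'⟩ := (Ideal.mem_map_iff_of_surjective Φ.toRingHom hΦs).1 h1
    obtain ⟨hzk, hzd⟩ := dJ z hz
    have hy : η (x.1 - z) = x.1 - z := by
      change (x.1 - z) - σ (Φ (x.1 - z)) = x.1 - z
      rw [map_sub, show Φ z = Φ x.1 from hz', sub_self, _root_.map_zero, sub_zero]
    have hmem : x.1 - z ∈ maximalIdeal C' • (⊤ : Submodule C' (MvPolynomial B₀ C')) := by
      apply ker_ρ₀
      have hz0 : ρ₀ z = (0 : ExalT1.R k B₀) := by
        have hle : J.map (algebraMap C' (MvPolynomial B₀ C')) ≤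
            RingHom.ker (ρ₀ (k := k) (B₀ := B₀) (C' := C')) :=
          Ideal.map_le_iff_le_comap.2 fun j hj => ρ₀_kerC hB ⟨j, hj⟩
        exact hle hz
      rw [map_sub, hx0, hz0, sub_zero]
    rw [dcongr (x := x) (y := ⟨η (x.1 - z), hηπ _⟩ + ⟨z, hzk⟩)
      (by rw [Submodule.coe_add]; exact (by rw [hy, sub_add_cancel] : x.1 = η (x.1 - z) + z)),
      dadd, hzd, dη _ hmem, add_zero]
  have wd : ∀ x y, ρ hB x = ρ hB y → d x = d y := by
    intro x y hxy
    have h1 := key (x + (-1 : MvPolynomial B₀ C') • y) (Subtype.ext (by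
      change ρ₀ (x.1 + (-1) * y.1) = ρ₀ 0
      rw [map_add, map_mul, map_neg, map_one, show ρ₀ x.1 = ρ₀ y.1 from congrArg Subtype.val hxy,
        neg_one_mul, add_neg_cancel, _root_.map_zero]))
    rw [dadd, dsmul, map_neg, map_one, neg_one_smul, ← sub_eq_add_neg, sub_eq_zero] at h1
    exact h1
  choose sx hsx using ρ_surjective hB
  let δ : Phi (ExalT1.π k B₀) (M₀ B₀ J) :=
    { toFun := fun f => d (sx f)
      map_add' := fun f g => by
        rw [← dadd]
        refine wd _ _ (Subtype.ext ?_)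
        rw [hsx]
        exact (((congrArg₂ (· + ·) (congrArg Subtype.val (hsx f)) (congrArg Subtype.val (hsx g)))).symm.trans
          (map_add ρ₀ _ _).symm)
      map_smul' := fun r f => by
        obtain ⟨r', rfl⟩ := ρ₀_surjective (C' := C') r
        rw [π_ρ₀ hB, ← hB.smul, ← dsmul]
        refine wd _ _ (Subtype.ext ?_)
        rw [hsx]
        exact (congrArg (ρ₀ r' * ·) (congrArg Subtype.val (hsx f))).symm.trans
          (map_mul ρ₀ _ _).symm }
  refine ⟨δ, Phi.ext' fun x => ?_⟩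
  change φ₀ x + d (sx (ρ hB x)) = φ x
  rw [wd _ x (hsx _)]
  simp only [d]
  abel

theorem twist_cl_eq_iff (hB : Base J B q) (φ₀ : Phi (π' hB) (M₀ B₀ J))
    (δ δ' : Phi (ExalT1.π k B₀) (M₀ B₀ J)) :
    (ExalPres.E (π'_surjective hB) (twist hB φ₀ δ)).cl =
      (ExalPres.E (π'_surjective hB) (twist hB φ₀ δ')).cl ↔ ExalT1.t1 δ = ExalT1.t1 δ' := by
  rw [cl_eq_iff, ExalT1.t1_eq_iff]
  constructor
  · rintro ⟨D, hD, hx⟩
    let h := (CotT.canon k B₀).cotangentSpaceBasis.constr ℕ fun i : B₀ => D (MvPolynomial.X i)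
    refine ⟨_, ExalT1.isDer_of_hom h, fun f => ?_⟩
    have hD0 := ExalT1.isDer_of_hom h
    generalize hD0def : (fun r => h ((1 : B₀) ⊗ₜ KaehlerDifferential.D k (ExalT1.R k B₀) r)) = D₀ at hD0
    have heq : ∀ r, D r = D₀ (ρ₀ r) := by
      intro r
      induction r using MvPolynomial.induction_on with
      | C c =>
        rw [show (MvPolynomial.C c : MvPolynomial B₀ C') = algebraMap C' _ c from rfl, hD.const,
          show ρ₀ (algebraMap C' (MvPolynomial B₀ C') c) =
            algebraMap k (ExalT1.R k B₀) (C'.res c) from MvPolynomial.map_C _ c, hD0.const]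
      | add a b ha hb => rw [hD.add, map_add, hD0.add, ha, hb]
      | mul_X a i ha =>
        rw [hD.mul, map_mul, hD0.mul, π_ρ₀ hB, π_ρ₀ hB, ← hB.smul, ← hB.smul, ha]
        congr 2
        rw [← hD0def, show ρ₀ (MvPolynomial.X i) = (MvPolynomial.X i : ExalT1.R k B₀) from
          MvPolynomial.map_X _ i]
        symm
        change h _ = _
        erw [← Algebra.Generators.cotangentSpaceBasis_apply]
        exact Module.Basis.constr_basis _ _ _ i
    obtain ⟨x, rfl⟩ := ρ_surjective hB f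
    have h2 := hx x
    change φ₀ x + δ' (ρ hB x) = φ₀ x + δ (ρ hB x) + D x.1 at h2
    rw [add_assoc, add_right_inj, heq] at h2
    subst hD0def
    exact h2
  · rintro ⟨D, hD, hx⟩
    refine ⟨fun r => D (ρ₀ r), ⟨fun a b => ?_, fun a b => ?_, fun c => ?_⟩, fun x => ?_⟩
    · rw [map_add, hD.add]
    · rw [map_mul, hD.mul, π_ρ₀ hB, π_ρ₀ hB, ← hB.smul, ← hB.smul]
    · rw [show ρ₀ (algebraMap C' (MvPolynomial B₀ C') c) =
        algebraMap k (ExalT1.R k B₀) (C'.res c) from MvPolynomial.map_C _ c, hD.const]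
    · change φ₀ x + δ' (ρ hB x) = φ₀ x + δ (ρ hB x) + D (ρ₀ x.1)
      rw [hx, add_assoc]
      rfl

theorem exists_lift_π' (hB : Base J B q) (X : Exal.Ext C' B (M₀ B₀ J)) :
    ∃ Φ : MvPolynomial B₀ C' →ₐ[C'] X.E, ∀ r, X.proj (Φ r) = π' hB r := by
  choose s hs using fun b₀ => X.isExtension.proj_surjective (Function.surjInv hB.surj b₀)
  refine ⟨MvPolynomial.aeval s, DFunLike.congr_fun (?_ : X.proj.comp (MvPolynomial.aeval s) = π' hB)⟩
  exact MvPolynomial.algHom_ext fun i => by simp [π', hs]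

/-- Normalised classes. -/
def NormClasses (J : Ideal C') (B : Type u) [CommRing B] [Algebra C' B] [Module B (M₀ B₀ J)] :
    Type (u + 1) :=
  {c : Exal.Exalcom C' B (M₀ B₀ J) // ∃ X, Norm X ∧ X.cl = c}

theorem norm_of_cl_eq {X Y : Exal.Ext C' B (M₀ B₀ J)} (h : X.cl = Y.cl) (hX : Norm X) : Norm Y := by
  obtain ⟨e⟩ := Quotient.exact h
  exact hX.of_equiv e

/-- Normalised classes are in bijection with `T¹` as soon as one exists. -/
theorem nonempty_equiv_T1 (hB : Base J B q) (X₀ : Exal.Ext C' B (M₀ B₀ J)) (h₀ : Norm X₀) :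
    Nonempty (NormClasses (B₀ := B₀) J B ≃ CotT.T1 (CotT.canon k B₀) (M₀ B₀ J)) := by
  have hπ := π'_surjective hB
  obtain ⟨φ₀, hφ₀⟩ := exists_cl_eq hπ (exists_lift_π' hB) X₀.cl
  have hN₀ : Norm (ExalPres.E hπ φ₀) := norm_of_cl_eq hφ₀.symm h₀
  have hN : ∀ δ, Norm (ExalPres.E hπ (twist hB φ₀ δ)) := fun δ => (norm_E_iff hB _).2 fun j => by
    change φ₀ (kerC hB j) + δ (ρ hB (kerC hB j)) = _
    rw [(norm_E_iff hB φ₀).1 hN₀, δ.congr (x := ρ hB (kerC hB j)) (y := 0) (ρ₀_kerC hB j),
      δ.map_zero, add_zero]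
  choose δ hδ using ExalT1.t1_surjective (A := k) (B := B₀) (M := M₀ B₀ J)
  have hbij : Function.Bijective fun x : CotT.T1 (CotT.canon k B₀) (M₀ B₀ J) =>
      (⟨(ExalPres.E hπ (twist hB φ₀ (δ x))).cl, _, hN _, rfl⟩ : NormClasses (B₀ := B₀) J B) := by
    refine ⟨fun x y hxy => ?_, fun ⟨c, X, hX, hXc⟩ => ?_⟩
    · rw [← hδ x, ← hδ y]
      exact (twist_cl_eq_iff hB φ₀ _ _).1 (congrArg Subtype.val hxy)
    · obtain ⟨φ, hφ⟩ := exists_cl_eq hπ (exists_lift_π' hB) c
      obtain ⟨δ', hδ'⟩ := exists_twist hB hN₀ (norm_of_cl_eq (hXc.trans hφ.symm) hX)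
      refine ⟨ExalT1.t1 δ', Subtype.ext (?_ : _ = c)⟩
      rw [← hφ, ← hδ', twist_cl_eq_iff]
      exact hδ _
  exact ⟨(Equiv.ofBijective _ hbij).symm⟩

end Classify

end Groth.Agent.DefAff
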